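import Mathlib.RingTheory.AdicCompletion.Functoriality
import Mathlib.RingTheory.AdicCompletion.Exactness
import Mathlib.RingTheory.AdicCompletion.Noetherian
import Mathlib.RingTheory.Finiteness.Ideal
import Mathlib.RingTheory.Filtration
import Mathlib.LinearAlgebra.FreeModule.Finite.Basic

/-! Finite modules over complete Noetherian rings. -/

namespace Groth.Agent.Adic.FiniteModule

variable {A : Type*} [CommRing A] {I : Ideal A}

theorem isPrecomplete_pi (r : ℕ) [IsPrecomplete I A] : IsPrecomplete I (Fin r → A) := by
  rw [← AdicCompletion.of_surjective_iff]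
  intro y
  choose x hx using fun i => AdicCompletion.of_surjective I A ((AdicCompletion.piEquivFin I r y) i)
  refine ⟨x, (AdicCompletion.piEquivFin I r).injective (funext fun i => ?_)⟩
  rw [← hx i, AdicCompletion.piEquivFin_apply]
  simp [AdicCompletion.pi, LinearMap.pi_apply]
  rfl

theorem isPrecomplete_of_finite {M : Type*} [AddCommGroup M] [Module A M] [Module.Finite A M]
    [IsPrecomplete I A] : IsPrecomplete I M := by
  obtain ⟨r, φ, hφ⟩ := Module.Finite.exists_fin' A M
  have := isPrecomplete_pi (I := I) r
  rw [← AdicCompletion.of_surjective_iff]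
  intro y
  obtain ⟨z, rfl⟩ := AdicCompletion.map_surjective I hφ y
  obtain ⟨x, rfl⟩ := AdicCompletion.of_surjective I _ z
  exact ⟨φ x, (AdicCompletion.map_of I φ x).symm⟩

theorem isAdicComplete_of_finite {M : Type*} [AddCommGroup M] [Module A M] [Module.Finite A M]
    [IsNoetherianRing A] [IsAdicComplete I A] : IsAdicComplete I M := by
  have := isPrecomplete_of_finite (I := I) (M := M)
  have : IsHausdorff I M := IsHausdorff.of_le_jacobson I M (IsAdicComplete.le_jacobson_bot I)
  exact ⟨⟩

/-- An element of `I ^ n • Hom(M, N)` maps `I ^ m • M` into `I ^ (n + m) • N`. -/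
theorem apply_mem_pow_smul {M N : Type*} [AddCommGroup M] [Module A M] [AddCommGroup N] [Module A N]
    {n m : ℕ} {w : M →ₗ[A] N} (hw : w ∈ I ^ n • (⊤ : Submodule A (M →ₗ[A] N)))
    {x : M} (hx : x ∈ I ^ m • (⊤ : Submodule A M)) : w x ∈ I ^ (n + m) • (⊤ : Submodule A N) := by
  induction hw using Submodule.smul_induction_on' with
  | smul a ha g _ =>
    rw [LinearMap.smul_apply, pow_add, ← smul_eq_mul, smul_assoc]
    refine Submodule.smul_mem_smul ha ?_
    have := Submodule.mem_map_of_mem (f := g) hx
    rw [Submodule.map_smul''] at this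
    have hle : I ^ m • Submodule.map g ⊤ ≤ I ^ m • (⊤ : Submodule A N) := smul_mono_right _ le_top
    exact hle this
  | add g _ g' _ h h' => exact add_mem h h'

theorem mem_smul_mono {M : Type*} [AddCommGroup M] [Module A M] {J : Ideal A} {N N' : Submodule A M}
    (h : N ≤ N') {x : M} (hx : x ∈ J • N) : x ∈ J • N' := smul_mono_right J h hx

end Groth.Agent.Adic.FiniteModule
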