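import Groth.Agent.Adic.Filtration
import Mathlib.RingTheory.MvPolynomial.Homogeneous
import Mathlib.RingTheory.Polynomial.Basic
import Mathlib.RingTheory.Ideal.Quotient.Operations

/-! Noetherianity of complete rings, and finite generation of the ideal of a complete filtration. -/

namespace Groth.Agent.Adic.Noetherian

open Groth.Agent.Adic.Filtration

variable {A : Type*} [CommRing A] {I : Ideal A}

theorem good_pow {L : Type*} [AddCommGroup L] [Module A L] [IsAdicComplete I L] :
    Good I (fun n => I ^ n • (⊤ : Submodule A L)) where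
  anti _ _ h := Submodule.pow_smul_top_le I L h
  sep x hx := IsHausdorff.haus (I := I) inferInstance x fun n => SModEq.zero.mpr (hx n)
  compl s hs := by
    have h : ∀ {m n : ℕ}, m ≤ n → s m ≡ s n [SMOD (I ^ m • ⊤ : Submodule A L)] := by
      intro m n hmn
      induction n, hmn using Nat.le_induction with
      | base => exact SModEq.refl _
      | succ n hmn ih =>
        exact ih.trans (SModEq.mono (Submodule.pow_smul_top_le I L hmn) (SModEq.sub_mem.mpr (hs n)).symm)
    obtain ⟨l, hl⟩ := IsPrecomplete.prec (I := I) (M := L) inferInstance h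
    exact ⟨l, fun n => SModEq.sub_mem.mp (hl n).symm⟩
  le _ := le_rfl

/-- If `I ≤ J + K 2` for a f.g. `J ≤ I`, then the filtration is both the `I`-adic and `J`-adic one. -/
theorem eq_pow_of_fg_mod_two {K : ℕ → Submodule A A} (h : Good I K)
    (hd : ∀ n, K n ≤ I ^ n • (⊤ : Submodule A A) ⊔ K (n + 1))
    {J : Ideal A} (hJI : J ≤ I) (hJ : J.FG) (h1 : I ≤ J ⊔ K 2) (n : ℕ) :
    K n = J ^ n ∧ K n = I ^ n := by
  have e : ∀ (N : Ideal A) (m : ℕ), N ^ m • (⊤ : Submodule A A) = N ^ m := fun N m => by
    rw [smul_eq_mul]; exact Ideal.mul_top _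
  have hmul : ∀ n, I * K n ≤ K (n + 1) := mul_le_succ h.le hd
  have hpow : ∀ m, I ^ m ≤ J ^ m ⊔ K (m + 1) := by
    intro m
    induction m with
    | zero => simp
    | succ m ih =>
      have hK2 : K 2 * I ^ m ≤ K (m + 1 + 1) := by
        clear ih
        induction m with
        | zero => simp
        | succ m ih =>
          rw [pow_succ, ← mul_assoc, mul_comm]
          exact (Ideal.mul_mono_right ih).trans (hmul _)
      have h2 : J * I ^ m ≤ J ^ (m + 1) ⊔ K (m + 1 + 1) := by
        refine (Ideal.mul_mono_right ih).trans ?_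
        rw [Ideal.mul_sup, ← pow_succ']
        exact sup_le le_sup_left (le_sup_of_le_right ((Ideal.mul_mono_left hJI).trans (hmul _)))
      calc I ^ (m + 1) = I * I ^ m := pow_succ' I m
        _ ≤ (J ⊔ K 2) * I ^ m := Ideal.mul_mono_left h1
        _ ≤ J ^ (m + 1) ⊔ K (m + 1 + 1) := by
          rw [Ideal.sup_mul]; exact sup_le h2 (le_sup_of_le_right hK2)
  have hg : Good J K :=
    ⟨h.anti, h.sep, h.compl, fun m => by
      rw [e]; exact ((Ideal.pow_right_mono hJI m).trans_eq (e I m).symm).trans (h.le m)⟩
  have hKJ : K n = J ^ n := by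
    rw [hg.eq_pow_of_dense hJ (fun m => (hd m).trans (by
      rw [e, e]; exact sup_le (hpow m) le_sup_right)) n, e]
  exact ⟨hKJ, le_antisymm (hKJ.le.trans (Ideal.pow_right_mono hJI n)) ((e I n).ge.trans (h.le n))⟩

open MvPolynomial in
theorem homogeneousComponent_mul_of_isHomogeneous {σ R : Type*} [CommRing R] {s : MvPolynomial σ R}
    {d : ℕ} (hs : s.IsHomogeneous d) (h : MvPolynomial σ R) (n : ℕ) :
    homogeneousComponent n (h * s) = if d ≤ n then homogeneousComponent (n - d) h * s else 0 := by
  conv_lhs => rw [← sum_homogeneousComponent h, Finset.sum_mul, map_sum]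
  have : ∀ i, homogeneousComponent n (homogeneousComponent i h * s)
      = if i + d = n then homogeneousComponent i h * s else 0 := fun i => by
    rw [homogeneousComponent_of_mem ((homogeneousComponent_isHomogeneous i h).mul hs)]
    exact if_congr eq_comm rfl rfl
  simp only [this]
  split_ifs with hdn
  · rw [Finset.sum_eq_single (n - d)]
    · rw [if_pos (by omega)]
    · intro b _ hb; rw [if_neg (by omega)]
    · intro hn
      rw [homogeneousComponent_eq_zero _ h (by rw [Finset.mem_range] at hn; omega)]
      simp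
  · exact Finset.sum_eq_zero fun i _ => if_neg (by omega)

open MvPolynomial in
theorem isNoetherianRing_of_isAdicComplete [IsAdicComplete I A] (hI : I.FG)
    [IsNoetherianRing (A ⧸ I)] : IsNoetherianRing A := by
  obtain ⟨r, a, ha⟩ := Submodule.fg_iff_exists_fin_generating_family.mp hI
  replace ha : Ideal.span (Set.range a) = I := ha
  classical
  refine isNoetherianRing_iff_ideal_fg A |>.mpr fun 𝔞 => ?_
  let π := MvPolynomial.map (σ := Fin r) (Ideal.Quotient.mk I)
  let S : Set (MvPolynomial (Fin r) (A ⧸ I)) :=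
    {q | ∃ n, ∃ p : MvPolynomial (Fin r) A, p.IsHomogeneous n ∧ π p = q ∧ eval a p ∈ 𝔞 ⊔ I ^ (n + 1)}
  obtain ⟨T, hTS, hT⟩ := Submodule.fg_span_iff_fg_span_finset_subset S |>.mp
    (IsNoetherian.noetherian (R := MvPolynomial (Fin r) (A ⧸ I)) (Submodule.span _ S))
  choose d p hp hpT hpa using fun t : T => hTS t.2
  choose f hf e he hfe using fun t : T => Submodule.mem_sup.mp (hpa t)
  have step : ∀ n (x : A), x ∈ 𝔞 → x ∈ I ^ n → ∃ c : T → A,
      (∀ t, c t ∈ I ^ (n - d t)) ∧ x - ∑ t, c t * f t ∈ I ^ (n + 1) := by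
    intro n x hx hxn
    rw [← ha, Ideal.mem_span_pow_iff_exists_isHomogeneous] at hxn
    obtain ⟨P, hP, rfl⟩ := hxn
    have hmem : π P ∈ Submodule.span (MvPolynomial (Fin r) (A ⧸ I)) (Set.range fun t : T => π (p t)) := by
      have h1 : π P ∈ Submodule.span (MvPolynomial (Fin r) (A ⧸ I)) S :=
        Submodule.subset_span ⟨n, P, hP, rfl, Ideal.mem_sup_left hx⟩
      have h2 : (Set.range fun t : T => π (p t)) = (T : Set _) := by
        simp only [hpT, Subtype.range_coe_subtype, Finset.setOf_mem]
      rwa [h2, ← hT]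
    obtain ⟨h, hh⟩ := (Submodule.mem_span_range_iff_exists_fun _).mp hmem
    choose H hH using fun t => MvPolynomial.map_surjective (σ := Fin r) _ Ideal.Quotient.mk_surjective (h t)
    let q : T → MvPolynomial (Fin r) A := fun t =>
      if d t ≤ n then homogeneousComponent (n - d t) (H t) else 0
    have hq : ∀ t, (q t * p t).IsHomogeneous n := fun t => by
      simp only [q]
      split_ifs with hd
      · have h3 := (homogeneousComponent_isHomogeneous (n - d t) (H t)).mul (hp t)
        rwa [Nat.sub_add_cancel hd] at h3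
      · simp [isHomogeneous_zero]
    have hπ : π (P - ∑ t, q t * p t) = 0 := by
      rw [map_sub, sub_eq_zero, ← homogeneousComponent_eq_self (hP.map _), ← hh, map_sum, map_sum]
      refine Finset.sum_congr rfl fun t _ => ?_
      have hhp : (π (p t)).IsHomogeneous (d t) := (hp t).map _
      rw [smul_eq_mul, homogeneousComponent_mul_of_isHomogeneous hhp, map_mul]
      simp only [q]
      split_ifs with hd
      · congr 1
        ext m
        simp [π, ← hH, coeff_map, coeff_homogeneousComponent, apply_ite (Ideal.Quotient.mk I)]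
      · simp
    have heval : eval a (P - ∑ t, q t * p t) ∈ I ^ (n + 1) := by
      rw [MvPolynomial.as_sum (P - ∑ t, q t * p t), map_sum]
      refine Ideal.sum_mem _ fun m hm => ?_
      have hc : MvPolynomial.coeff m (P - ∑ t, q t * p t) ∈ I := Ideal.Quotient.eq_zero_iff_mem.mp (by
        have := congrArg (MvPolynomial.coeff m) hπ
        rwa [coeff_map, coeff_zero] at this)
      have hhom : (P - ∑ t, q t * p t).IsHomogeneous n := hP.sub (IsHomogeneous.sum _ _ _ fun t _ => hq t)
      have hdeg : m.degree = n := by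
        by_contra hne
        exact (MvPolynomial.mem_support_iff.mp hm) (hhom.coeff_eq_zero hne)
      rw [← mul_one (MvPolynomial.coeff m _), ← MvPolynomial.C_mul_monomial, map_mul, eval_C, pow_succ']
      refine Ideal.mul_mem_mul hc ?_
      rw [← ha, Ideal.mem_span_pow_iff_exists_isHomogeneous]
      exact ⟨_, isHomogeneous_monomial 1 hdeg, rfl⟩
    refine ⟨fun t => eval a (q t), fun t => ?_, ?_⟩
    · simp only [q]
      split_ifs with hd
      · rw [← ha, Ideal.mem_span_pow_iff_exists_isHomogeneous]
        exact ⟨_, homogeneousComponent_isHomogeneous _ _, rfl⟩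
      · simp
    · have : eval a P - ∑ t, eval a (q t) * f t
          = eval a (P - ∑ t, q t * p t) + ∑ t, eval a (q t) * e t := by
        simp [← hfe, mul_add, Finset.sum_add_distrib]; abel
      rw [this]
      refine add_mem heval (Ideal.sum_mem _ fun t _ => ?_)
      simp only [q]
      split_ifs with hd
      · have h3 : eval a (homogeneousComponent (n - d t) (H t)) ∈ I ^ (n - d t) := by
          rw [← ha, Ideal.mem_span_pow_iff_exists_isHomogeneous]
          exact ⟨_, homogeneousComponent_isHomogeneous _ _, rfl⟩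
        have h4 := Ideal.mul_mem_mul h3 (he t)
        rwa [← pow_add, show n - d t + (d t + 1) = n + 1 by omega] at h4
      · simp
  refine ⟨Finset.univ.image f, le_antisymm (Submodule.span_le.mpr ?_) fun x hx => ?_⟩
  · intro y hy
    simp only [Finset.coe_image, Set.mem_image] at hy
    obtain ⟨t, -, rfl⟩ := hy
    exact hf t
  choose c hc hcI using step
  let X : ∀ n, {x // x ∈ 𝔞 ∧ x ∈ I ^ n} := fun n => Nat.rec ⟨x, hx, by simp⟩ (fun n y =>
    ⟨y.1 - ∑ t, c n y.1 y.2.1 y.2.2 t * f t,
      𝔞.sub_mem y.2.1 (Ideal.sum_mem _ fun t _ => 𝔞.mul_mem_left _ (hf t)), hcI _ _ _ _⟩) n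
  let C : T → ℕ → A := fun t N => ∑ k ∈ Finset.range N, c k (X k).1 (X k).2.1 (X k).2.2 t
  have key : ∀ N, (X N).1 = x - ∑ t, C t N * f t := by
    intro N
    induction N with
    | zero => simp [X, C]
    | succ N ih =>
      change (X N).1 - ∑ t, c N (X N).1 (X N).2.1 (X N).2.2 t * f t = _
      conv_lhs => arg 1; rw [ih]
      simp only [C, Finset.sum_range_succ, add_mul, Finset.sum_add_distrib]
      ring
  have hlim : ∀ t, ∃ l : A, ∀ k, l - C t (k + d t) ∈ I ^ k := by
    intro t
    obtain ⟨l, hl⟩ := (good_pow (I := I) (L := A)).compl (fun k => C t (k + d t)) (fun k => by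
      change _ ∈ I ^ k • (⊤ : Submodule A A)
      rw [smul_eq_mul, Ideal.mul_top]
      have : C t (k + 1 + d t) - C t (k + d t) = c (k + d t) (X (k + d t)).1 (X (k + d t)).2.1 (X (k + d t)).2.2 t := by
        simp only [C]
        rw [show k + 1 + d t = k + d t + 1 by omega, Finset.sum_range_succ, add_sub_cancel_left]
      rw [this]
      have h5 := hc (k + d t) _ (X (k + d t)).2.1 (X (k + d t)).2.2 t
      rwa [Nat.add_sub_cancel] at h5)
    refine ⟨l, fun k => ?_⟩
    have := hl k
    simpa using this
  choose l hl using hlim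
  have hxl : x = ∑ t, l t * f t := by
    refine IsHausdorff.eq_iff_smodEq (I := I) (M := A) |>.mpr fun k => SModEq.sub_mem.mpr ?_
    rw [smul_eq_mul, Ideal.mul_top]
    let N := k + Finset.univ.sup d
    have hlt : ∀ t, l t - C t N ∈ I ^ k := fun t => by
      have hle : d t ≤ N := le_add_left (Finset.le_sup (Finset.mem_univ t))
      have := hl t (N - d t)
      rw [Nat.sub_add_cancel hle] at this
      refine Ideal.pow_le_pow_right ?_ this
      have : d t ≤ Finset.univ.sup d := Finset.le_sup (Finset.mem_univ t)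
      omega
    have : x - ∑ t, l t * f t = (X N).1 - ∑ t, (l t - C t N) * f t := by
      rw [key]; simp [sub_mul, Finset.sum_sub_distrib]
    rw [this]
    exact sub_mem (Ideal.pow_le_pow_right (Nat.le_add_right k _) (X N).2.2)
      (Ideal.sum_mem _ fun t _ => Ideal.mul_mem_right _ _ (hlt t))
  rw [hxl]
  exact Ideal.sum_mem _ fun t _ => Ideal.mul_mem_left _ _ (Submodule.subset_span (by simp))

end Groth.Agent.Adic.Noetherian
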