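import Mathlib.RingTheory.AdicCompletion.Basic
import Mathlib.RingTheory.Finiteness.Ideal
import Mathlib.RingTheory.Ideal.Operations
import Mathlib.RingTheory.Finiteness.Basic

/-!
Filtered modules: if `K` is a separated filtration, complete, with `I ^ n • ⊤ ≤ K n` and
`K n ≤ I ^ n • ⊤ ⊔ K (n+1)`, then `K n = I ^ n • ⊤` (when `I` is f.g., or when the ring is
precomplete and `L / K 1` is finite).
-/

namespace Groth.Agent.Adic.Filtration

variable {A : Type*} [CommRing A] {L : Type*} [AddCommGroup L] [Module A L]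

/-- A separated, complete, decreasing filtration containing the `I`-adic one. -/
structure Good (I : Ideal A) (K : ℕ → Submodule A L) : Prop where
  anti : Antitone K
  sep : ∀ x : L, (∀ n, x ∈ K n) → x = 0
  compl : ∀ s : ℕ → L, (∀ n, s (n + 1) - s n ∈ K n) → ∃ l, ∀ n, l - s n ∈ K n
  le : ∀ n, I ^ n • (⊤ : Submodule A L) ≤ K n

theorem exists_sum_of_mem_span_smul {r : ℕ} (a : Fin r → A) (N : Submodule A L) {x : L}
    (hx : x ∈ Ideal.span (Set.range a) • N) :
    ∃ e : Fin r → L, (∀ i, e i ∈ N) ∧ x = ∑ i, a i • e i := by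
  induction hx using Submodule.smul_induction_on' with
  | smul c hc y hy =>
    obtain ⟨c', hc'⟩ := (Ideal.mem_span_range_iff_exists_fun (R := A)).mp hc
    refine ⟨fun i => c' i • y, fun i => N.smul_mem _ hy, ?_⟩
    rw [← hc', Finset.sum_smul]
    exact Finset.sum_congr rfl fun i _ => by rw [mul_smul, smul_comm]
  | add x _ y _ hx hy =>
    obtain ⟨e, he, rfl⟩ := hx
    obtain ⟨e', he', rfl⟩ := hy
    exact ⟨e + e', fun i => N.add_mem (he i) (he' i),
      by simp [smul_add, Finset.sum_add_distrib]⟩

variable {I : Ideal A} {K : ℕ → Submodule A L}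

theorem Good.eq_of_forall (h : Good I K) {x y : L} (hxy : ∀ n, x - y ∈ K n) : x = y :=
  sub_eq_zero.mp (h.sep _ hxy)

/-- A `K`-limit of a sequence with increments in `I^(n+j)` lies in `I^n • ⊤` (`I` f.g.). -/
theorem Good.limit_mem (h : Good I K) (hI : I.FG) {n : ℕ} {s : ℕ → L} (h0 : s 0 = 0)
    (hs : ∀ j, s (j + 1) - s j ∈ I ^ (n + j) • (⊤ : Submodule A L))
    {x : L} (hx : ∀ j, x - s j ∈ K j) : x ∈ I ^ n • (⊤ : Submodule A L) := by
  obtain ⟨r, a, ha⟩ := Submodule.fg_iff_exists_fin_generating_family.mp (Ideal.FG.pow (n := n) hI)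
  have hs' : ∀ j, s (j + 1) - s j ∈ Ideal.span (Set.range a) • (I ^ j • (⊤ : Submodule A L)) := by
    intro j
    have hspan : Ideal.span (Set.range a) = I ^ n := ha
    rw [hspan, ← smul_assoc, smul_eq_mul, ← pow_add]
    exact hs j
  choose e he hsum using fun j => exists_sum_of_mem_span_smul a _ (hs' j)
  have hstep : ∀ i j, (∑ k ∈ Finset.range (j + 1), e k i) - (∑ k ∈ Finset.range j, e k i) ∈ K j := by
    intro i j
    rw [Finset.sum_range_succ, add_sub_cancel_left]
    exact h.le j (he j i)
  choose E hE using fun i => h.compl (fun j => ∑ k ∈ Finset.range j, e k i) (hstep i)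
  have key : ∀ j, s j = ∑ i, a i • ∑ k ∈ Finset.range j, e k i := by
    intro j
    induction j with
    | zero => simp [h0]
    | succ j ih =>
      rw [← sub_add_cancel (s (j + 1)) (s j), hsum j, ih]
      simp [Finset.sum_range_succ, smul_add, Finset.sum_add_distrib, add_comm]
  have hxE : x = ∑ i, a i • E i := by
    refine h.eq_of_forall fun j => ?_
    have : x - ∑ i, a i • E i = (x - s j) - ∑ i, a i • (E i - ∑ k ∈ Finset.range j, e k i) := by
      rw [key j]; simp [smul_sub, Finset.sum_sub_distrib]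
    rw [this]
    exact (K j).sub_mem (hx j) ((K j).sum_mem fun i _ => (K j).smul_mem _ (hE i j))
  rw [hxE]
  refine Submodule.sum_mem _ fun i _ => Submodule.smul_mem_smul ?_ Submodule.mem_top
  rw [← ha]; exact Submodule.subset_span ⟨i, rfl⟩

theorem Good.isHausdorff (h : Good I K) : IsHausdorff I L :=
  ⟨fun x hx => h.sep x fun n => h.le n (SModEq.zero.mp (hx n))⟩

/-- A good filtration makes `L` complete for the adic topology of a f.g. ideal. -/
theorem Good.isAdicComplete (h : Good I K) (hI : I.FG) : IsAdicComplete I L := by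
  have := h.isHausdorff
  have : IsPrecomplete I L := by
    refine ⟨fun f hf => ?_⟩
    have hf' : ∀ m, f (m + 1) - f m ∈ I ^ m • (⊤ : Submodule A L) := fun m => by
      have := (hf (Nat.le_succ m)).symm
      rwa [SModEq.sub_mem] at this
    obtain ⟨l, hl⟩ := h.compl f fun m => h.le m (hf' m)
    refine ⟨l, fun n => (SModEq.sub_mem.mpr ?_).symm⟩
    refine h.limit_mem hI (s := fun j => f (n + j) - f n) (by simp) (fun j => ?_) (fun j => ?_)
    · have : f (n + (j + 1)) - f n - (f (n + j) - f n) = f (n + j + 1) - f (n + j) := by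
        rw [← add_assoc]; abel
      rw [this]; exact hf' _
    · have : l - f n - (f (n + j) - f n) = l - f (n + j) := by abel
      rw [this]; exact h.anti (Nat.le_add_left j n) (hl _)
  exact ⟨⟩

theorem Good.eq_pow_of_dense (h : Good I K) (hI : I.FG)
    (hd : ∀ n, K n ≤ I ^ n • (⊤ : Submodule A L) ⊔ K (n + 1)) (n : ℕ) :
    K n = I ^ n • (⊤ : Submodule A L) := by
  refine le_antisymm (fun x hx => ?_) (h.le n)
  have hstep : ∀ j (y : K (n + j)), ∃ z : K (n + (j + 1)), (y : L) - z ∈ I ^ (n + j) • (⊤ : Submodule A L) := by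
    intro j y
    obtain ⟨u, hu, z, hz, huz⟩ := Submodule.mem_sup.mp (hd _ y.2)
    exact ⟨⟨z, hz⟩, by rw [← huz]; simpa using hu⟩
  choose g hg using hstep
  let t : ∀ j, K (n + j) := fun j => Nat.rec ⟨x, hx⟩ (fun j y => g j y) j
  refine h.limit_mem hI (s := fun j => x - (t j).1) (by simp [t]) (fun j => ?_) (fun j => ?_)
  · have : x - (t (j + 1)).1 - (x - (t j).1) = (t j).1 - (t (j + 1)).1 := by abel
    rw [this]; exact hg j (t j)
  · have : x - (x - (t j).1) = (t j).1 := by abel
    rw [this]; exact h.anti (Nat.le_add_left j n) (t j).2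

theorem mul_le_succ (hle : ∀ n, I ^ n • (⊤ : Submodule A L) ≤ K n)
    (hd : ∀ n, K n ≤ I ^ n • (⊤ : Submodule A L) ⊔ K (n + 1)) (n : ℕ) : I • K n ≤ K (n + 1) := by
  calc I • K n ≤ I • (I ^ n • (⊤ : Submodule A L) ⊔ K (n + 1)) := smul_mono_right _ (hd n)
    _ ≤ K (n + 1) := by
      rw [Submodule.smul_sup, ← smul_assoc, smul_eq_mul, ← pow_succ']
      exact sup_le (hle _) Submodule.smul_le_right

/-- Over a precomplete ring, `L` is finite and `K n = I ^ n • ⊤` as soon as `L / K 1` is finite. -/
theorem Good.finite_and_eq_pow [IsPrecomplete I A] (h : Good I K)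
    (hd : ∀ n, K n ≤ I ^ n • (⊤ : Submodule A L) ⊔ K (n + 1))
    {r : ℕ} (x : Fin r → L) (hx : Submodule.span A (Set.range x) ⊔ K 1 = ⊤) :
    Submodule.span A (Set.range x) = ⊤ ∧ ∀ n, K n = I ^ n • (⊤ : Submodule A L) := by
  have hmul : ∀ n, I ^ n • K 1 ≤ K (n + 1) := by
    intro n
    induction n with
    | zero => simp
    | succ n ih =>
      rw [pow_succ', ← smul_eq_mul, smul_assoc]
      exact (smul_mono_right _ ih).trans (mul_le_succ h.le hd _)
  have hd' : ∀ n, K n ≤ I ^ n • Submodule.span A (Set.range x) ⊔ K (n + 1) := by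
    intro n
    refine (hd n).trans (sup_le ?_ le_sup_right)
    rw [← hx, Submodule.smul_sup]
    exact sup_le le_sup_left ((hmul n).trans le_sup_right)
  have main : ∀ n, ∀ y ∈ K n, y ∈ I ^ n • Submodule.span A (Set.range x) := by
    intro n y hy
    have hstep : ∀ j (w : K (n + j)), ∃ c : Fin r → A, (∀ i, c i ∈ I ^ (n + j)) ∧
        (w : L) - ∑ i, c i • x i ∈ K (n + (j + 1)) := by
      intro j w
      obtain ⟨u, hu, z, hz, huz⟩ := Submodule.mem_sup.mp (hd' _ w.2)
      obtain ⟨c, hc, hcu⟩ := (Submodule.mem_ideal_smul_span_iff_exists_sum _ _ _).mp hu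
      refine ⟨c, hc, ?_⟩
      have : (w : L) - ∑ i, c i • x i = z := by
        rw [← huz, ← hcu, Finsupp.sum_fintype _ _ (fun i => by simp)]; abel
      rw [this]; exact hz
    choose c hc hcK using hstep
    let t : ∀ j, K (n + j) := fun j => Nat.rec ⟨y, hy⟩ (fun j w => ⟨_, hcK j w⟩) j
    let C : ℕ → Fin r → A := fun j i => ∑ k ∈ Finset.range j, c k (t k) i
    have hC : ∀ i, ∀ {a b : ℕ}, a ≤ b → C b i - C a i ∈ I ^ (n + a) := by
      intro i a b hab
      induction b, hab using Nat.le_induction with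
      | base => simp
      | succ b hab ih =>
        have : C (b + 1) i - C a i = (C b i - C a i) + c b (t b) i := by
          simp only [C, Finset.sum_range_succ]; abel
        rw [this]
        exact (I ^ (n + a)).add_mem ih (Ideal.pow_le_pow_right (by omega) (hc b (t b) i))
    have hexists : ∀ i, ∃ l : A, ∀ a, l - C a i ∈ I ^ a := by
      intro i
      obtain ⟨l, hl⟩ := IsPrecomplete.prec (I := I) ‹_› (f := fun a => C a i) (fun {a b} hab => by
        refine (SModEq.sub_mem.mpr ?_).symm
        rw [smul_eq_mul, Ideal.mul_top]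
        exact Ideal.pow_le_pow_right (Nat.le_add_left a n) (hC i hab))
      refine ⟨l, fun a => ?_⟩
      have := (hl a).symm
      rw [SModEq.sub_mem, smul_eq_mul, Ideal.mul_top] at this
      exact this
    choose l hl using hexists
    have hy' : y = ∑ i, l i • x i := by
      refine h.eq_of_forall fun a => ?_
      have key : ∀ j, (t j).1 = y - ∑ i, C j i • x i := by
        intro j
        induction j with
        | zero => simp [t, C]
        | succ j ih =>
          change (t j).1 - ∑ i, c j (t j) i • x i = _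
          rw [ih]
          simp only [C, Finset.sum_range_succ, add_smul, Finset.sum_add_distrib]
          abel
      have : y - ∑ i, l i • x i = (t a).1 - ∑ i, (l i - C a i) • x i := by
        rw [key a]; simp [sub_smul, Finset.sum_sub_distrib]
      rw [this]
      exact (K a).sub_mem (h.anti (Nat.le_add_left a n) (t a).2)
        ((K a).sum_mem fun i _ => h.le a (Submodule.smul_mem_smul (hl i a) Submodule.mem_top))
    rw [hy']
    refine Submodule.sum_mem _ fun i _ => Submodule.smul_mem_smul ?_ (Submodule.subset_span ⟨i, rfl⟩)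
    have h1 : C n i ∈ I ^ n := by
      have := hC i (Nat.zero_le n)
      simpa [C] using this
    simpa using (I ^ n).add_mem (hl i n) h1
  have htop : Submodule.span A (Set.range x) = ⊤ := by
    refine eq_top_iff.mpr fun y _ => ?_
    have hK0 : y ∈ K 0 := h.le 0 (by simp)
    simpa using main 0 y hK0
  refine ⟨htop, fun n => le_antisymm (fun y hy => ?_) (h.le n)⟩
  have := main n y hy
  rwa [htop] at this

theorem Good.finite [IsPrecomplete I A] (h : Good I K)
    (hd : ∀ n, K n ≤ I ^ n • (⊤ : Submodule A L) ⊔ K (n + 1))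
    (hfin : Module.Finite A (L ⧸ K 1)) :
    Module.Finite A L ∧ ∀ n, K n = I ^ n • (⊤ : Submodule A L) := by
  obtain ⟨r, g, hg⟩ := Module.Finite.exists_fin (R := A) (M := L ⧸ K 1)
  choose x hx using fun i => Submodule.mkQ_surjective (K 1) (g i)
  have hsup : Submodule.span A (Set.range x) ⊔ K 1 = ⊤ := by
    have : (Submodule.span A (Set.range x)).map (K 1).mkQ = ⊤ := by
      rw [Submodule.map_span, ← Set.range_comp, ← hg]
      congr 2; funext i; exact hx i
    rw [sup_comm, ← Submodule.comap_map_mkQ, this, Submodule.comap_top]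
  obtain ⟨h1, h2⟩ := h.finite_and_eq_pow hd x hsup
  exact ⟨Module.finite_def.mpr (Submodule.fg_iff_exists_fin_generating_family.mpr ⟨r, x, h1⟩), h2⟩

end Groth.Agent.Adic.Filtration
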