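import Mathlib.RingTheory.PowerSeries.Basic
import Mathlib.RingTheory.PowerSeries.Inverse
import Mathlib.Algebra.Module.Projective
import Mathlib.LinearAlgebra.TensorProduct.RightExactness
import Mathlib.RingTheory.Flat.Tensor
import Mathlib.RingTheory.Flat.EquationalCriterion
import Mathlib.RingTheory.LocalRing.Module
import Mathlib.RingTheory.TensorProduct.Finite
import Mathlib.Tactic.Ring

/-!
Lattices `Λ` with `X ^ M • R⟦X⟧ⁿ ⊆ Λ ⊆ R⟦X⟧ⁿ`: `Λ` is finite projective over `R⟦X⟧` iff
the quotient is projective over `R`.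
-/

noncomputable section

namespace Groth.Agent.Adic.LatticeQuot

open PowerSeries
open scoped TensorProduct

universe u

variable {R : Type u} [CommRing R] {n M : ℕ}


/-- truncation modulo `X ^ M` -/
def tau (R : Type u) [CommRing R] (n M : ℕ) : (Fin n → PowerSeries R) →ₗ[R] (Fin n → Fin M → R) :=
  LinearMap.pi fun i => LinearMap.pi fun j => (coeff (R := R) (j : ℕ)).comp (LinearMap.proj i)

theorem tau_apply (v : (Fin n → PowerSeries R)) (i : Fin n) (j : Fin M) : tau R n M v i j = coeff (j : ℕ) (v i) := rfl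

/-- the polynomial with given coefficients -/
def poly (R : Type u) [CommRing R] (n M : ℕ) : (Fin n → Fin M → R) →ₗ[R] (Fin n → PowerSeries R) where
  toFun c i := mk fun j => if h : j < M then c i ⟨j, h⟩ else 0
  map_add' a b := by
    funext i; ext j
    simp only [Pi.add_apply, map_add, coeff_mk]
    split_ifs <;> simp
  map_smul' r a := by
    funext i; ext j
    simp only [Pi.smul_apply, RingHom.id_apply, map_smul, coeff_mk]
    split_ifs <;> simp

theorem tau_poly (c : Fin n → Fin M → R) : tau R n M (poly R n M c) = c := by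
  funext i j
  simp [tau_apply, poly, j.2]

theorem exists_of_tau_eq_zero {v : (Fin n → PowerSeries R)} (h : tau R n M v = 0) : ∃ w : (Fin n → PowerSeries R), v = (X : (PowerSeries R)) ^ M • w := by
  refine ⟨fun i => mk fun j => coeff (j + M) (v i), ?_⟩
  funext i
  ext j
  rw [Pi.smul_apply, smul_eq_mul, coeff_X_pow_mul']
  split_ifs with hj
  · rw [coeff_mk, Nat.sub_add_cancel hj]
  · exact congrFun (congrFun h i) ⟨j, not_le.1 hj⟩

theorem tau_X_pow_smul (w : (Fin n → PowerSeries R)) : tau R n M ((X : (PowerSeries R)) ^ M • w) = 0 := by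
  funext i j
  rw [tau_apply, Pi.smul_apply, smul_eq_mul, coeff_X_pow_mul', if_neg (not_le.2 j.2)]
  rfl

variable (Λ : Submodule (PowerSeries R) (Fin n → PowerSeries R))

/-- the kernel of `F → (Fin n → PowerSeries R) / Λ` -/
def K (M : ℕ) : Submodule R (Fin n → Fin M → R) := (Λ.restrictScalars R).map (tau R n M)

/-- the presentation of the quotient -/
def g (M : ℕ) : (Fin n → Fin M → R) →ₗ[R] ((Fin n → PowerSeries R) ⧸ Λ) :=
  (Λ.mkQ.restrictScalars R).comp (poly R n M)

variable {Λ} (hΛ : ∀ v : (Fin n → PowerSeries R), (X : (PowerSeries R)) ^ M • v ∈ Λ)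
include hΛ

theorem sub_poly_mem (v : (Fin n → PowerSeries R)) : v - poly R n M (tau R n M v) ∈ Λ := by
  obtain ⟨w, hw⟩ := exists_of_tau_eq_zero (n := n) (M := M) (v := v - poly R n M (tau R n M v))
    (by rw [map_sub, tau_poly, sub_self])
  rw [hw]
  exact hΛ w

theorem g_surjective : Function.Surjective (g Λ M) := by
  intro q
  obtain ⟨v, rfl⟩ := Λ.mkQ_surjective q
  refine ⟨tau R n M v, ?_⟩
  show Λ.mkQ _ = Λ.mkQ v
  rw [← sub_eq_zero, ← map_sub, Submodule.mkQ_apply, Submodule.Quotient.mk_eq_zero, ← neg_sub]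
  exact Λ.neg_mem (sub_poly_mem hΛ v)

theorem ker_g : LinearMap.ker (g Λ M) = K Λ M := by
  ext c
  rw [LinearMap.mem_ker]
  constructor
  · intro hc
    exact ⟨poly R n M c, (Submodule.Quotient.mk_eq_zero Λ).1 hc, tau_poly c⟩
  · rintro ⟨v, hv, rfl⟩
    refine (Submodule.Quotient.mk_eq_zero Λ).2 ?_
    have h2 := sub_mem (hv : v ∈ Λ) (sub_poly_mem hΛ v)
    rwa [sub_sub_cancel] at h2

theorem projective_quotient [Module.Finite (PowerSeries R) Λ] [Module.Projective (PowerSeries R) Λ] :
    Module.Projective R ((Fin n → PowerSeries R) ⧸ Λ) := by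
  classical
  obtain ⟨m, p, hp⟩ := Module.Finite.exists_fin' (PowerSeries R) Λ
  obtain ⟨s, hs⟩ := Module.projective_lifting_property p LinearMap.id hp
  -- `X ^ M` is split injective on `Λ`
  let shift : (PowerSeries R) →ₗ[R] (PowerSeries R) :=
    { toFun := fun f => mk fun j => coeff (j + M) f
      map_add' := fun a b => by ext j; simp
      map_smul' := fun r a => by ext j; simp }
  let rho : Λ →ₗ[R] Λ :=
    (p.restrictScalars R).comp ((LinearMap.pi fun i => shift.comp (LinearMap.proj i)).comp
      (s.restrictScalars R))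
  let xM : Λ →ₗ[R] Λ := (LinearMap.lsmul (PowerSeries R) Λ ((X : (PowerSeries R)) ^ M)).restrictScalars R
  have hrho : rho.comp xM = LinearMap.id := by
    refine LinearMap.ext fun l => ?_
    show p (fun i => shift (s ((X : (PowerSeries R)) ^ M • l) i)) = l
    have : (fun i => shift (s ((X : (PowerSeries R)) ^ M • l) i)) = s l := by
      funext i
      rw [map_smul, Pi.smul_apply, smul_eq_mul]
      ext j
      simp only [shift, LinearMap.coe_mk, AddHom.coe_mk]
      rw [coeff_mk, coeff_X_pow_mul', if_pos (Nat.le_add_left M j), Nat.add_sub_cancel]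
    rw [this]
    exact LinearMap.congr_fun hs l
  let mu : (Fin n → PowerSeries R) →ₗ[R] Λ :=
    ((LinearMap.lsmul (PowerSeries R) (Fin n → PowerSeries R) ((X : (PowerSeries R)) ^ M)).codRestrict Λ hΛ).restrictScalars R
  let io : Λ →ₗ[R] (Fin n → PowerSeries R) := Λ.subtype.restrictScalars R
  let tK : Λ →ₗ[R] K Λ M :=
    ((tau R n M).comp io).codRestrict (K Λ M) fun l => ⟨(l : (Fin n → PowerSeries R)), l.2, rfl⟩
  have htK : Function.Surjective tK := by
    rintro ⟨_, v, hv, rfl⟩
    exact ⟨⟨v, hv⟩, rfl⟩
  -- injectivity after tensoring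
  have hinj : ∀ (N : Type u) [AddCommGroup N] [Module R N],
      Function.Injective ((K Λ M).subtype.rTensor N) := by
    intro N _ _
    rw [injective_iff_map_eq_zero]
    intro z hz
    obtain ⟨z, rfl⟩ := LinearMap.rTensor_surjective N htK z
    rw [← LinearMap.comp_apply, ← LinearMap.rTensor_comp,
      show (K Λ M).subtype.comp tK = (tau R n M).comp io from rfl,
      LinearMap.rTensor_comp, LinearMap.comp_apply] at hz
    have hex : Function.Exact (io.comp mu) (tau R n M) := fun v => by
      refine ⟨fun hv => ?_, ?_⟩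
      · obtain ⟨w, hw⟩ := exists_of_tau_eq_zero hv
        exact ⟨w, hw.symm⟩
      · rintro ⟨w, rfl⟩; exact tau_X_pow_smul w
    have hsurj : Function.Surjective (tau R n M) := fun c => ⟨_, tau_poly c⟩
    obtain ⟨w, hw⟩ := ((rTensor_exact N hex hsurj) _).1 hz
    rw [LinearMap.rTensor_comp, LinearMap.comp_apply] at hw
    have hio : Function.LeftInverse ((rho.comp mu).rTensor N) (io.rTensor N) := fun y => by
      rw [← LinearMap.comp_apply, ← LinearMap.rTensor_comp, LinearMap.comp_assoc,
        show mu.comp io = xM from rfl, hrho, LinearMap.rTensor_id, LinearMap.id_apply]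
    rw [← hio.injective hw, ← LinearMap.comp_apply, ← LinearMap.rTensor_comp,
      show tK.comp mu = 0 from LinearMap.ext fun v => Subtype.ext (tau_X_pow_smul v)]
    simp
  have hfl : Module.Flat R ((Fin n → PowerSeries R) ⧸ Λ) := by
    rw [Module.Flat.iff_rTensor_injective']
    intro I
    rw [← LinearMap.lTensor_inj_iff_rTensor_inj]
    refine lTensor_injective_of_exact_of_exact_of_rTensor_injective
      (M₁ := K Λ M) (M₂ := Fin n → Fin M → R) (N₂ := R) (N₃ := R ⧸ I)
      (f₁ := (K Λ M).subtype) (f₂ := g Λ M) (g₁ := I.subtype) (g₂ := I.mkQ) ?_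
      (g_surjective hΛ) (LinearMap.exact_subtype_mkQ I) (Submodule.mkQ_surjective I) (hinj (R ⧸ I))
      (Module.Flat.lTensor_preserves_injective_linearMap _ Subtype.val_injective)
    rw [← ker_g hΛ]
    exact LinearMap.exact_subtype_ker_map _
  have hK : (K Λ M).FG := by
    obtain ⟨t, ht⟩ := Module.Finite.iff_fg.1 (inferInstance : Module.Finite (PowerSeries R) Λ)
    refine ⟨(Finset.range M ×ˢ t).image fun a => tau R n M ((X : (PowerSeries R)) ^ a.1 • a.2), le_antisymm ?_ ?_⟩
    · rw [Submodule.span_le]
      intro y hy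
      obtain ⟨⟨j, l⟩, hjl, rfl⟩ := Finset.mem_image.1 (Finset.mem_coe.1 hy)
      exact ⟨_, Λ.smul_mem _ (ht ▸ Submodule.subset_span (Finset.mem_product.1 hjl).2), rfl⟩
    · rintro _ ⟨v, hv, rfl⟩
      have hv' : v ∈ Submodule.span (PowerSeries R) (t : Set (Fin n → PowerSeries R)) := by rw [ht]; exact hv
      obtain ⟨c, rfl⟩ := Submodule.mem_span_finset'.1 hv'
      rw [map_sum]
      refine sum_mem fun l _ => ?_
      have e : c l • (l : (Fin n → PowerSeries R)) = (∑ j ∈ Finset.range M, coeff j (c l) • ((X : (PowerSeries R)) ^ j • (l : (Fin n → PowerSeries R)))) +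
          (X : (PowerSeries R)) ^ M • ((mk fun j => coeff (j + M) (c l) : (PowerSeries R)) • (l : (Fin n → PowerSeries R))) := by
        rw [smul_smul]
        simp only [← smul_assoc]
        rw [← Finset.sum_smul, ← add_smul]
        congr 1
        ext j
        rw [map_add, map_sum, coeff_X_pow_mul']
        simp only [map_smul, coeff_X_pow, smul_eq_mul, mul_ite, mul_one, mul_zero,
          Finset.sum_ite_eq, Finset.mem_range]
        by_cases hj : j < M
        · rw [if_pos hj, if_neg (not_le.2 hj), add_zero]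
        · rw [if_neg hj, if_pos (not_lt.1 hj), zero_add, coeff_mk, Nat.sub_add_cancel (not_lt.1 hj)]
      rw [e, map_add, tau_X_pow_smul, add_zero, map_sum]
      refine sum_mem fun j hj => ?_
      rw [map_smul]
      exact Submodule.smul_mem _ _
        (Submodule.subset_span (Finset.mem_image.2 ⟨(j, l), Finset.mem_product.2 ⟨hj, l.2⟩, rfl⟩))
  have : Module.FinitePresentation R ((Fin n → PowerSeries R) ⧸ Λ) :=
    Module.finitePresentation_of_surjective (g Λ M) (g_surjective hΛ) (by rw [ker_g hΛ]; exact hK)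
  exact Module.Flat.projective_of_finitePresentation

theorem finite_projective_of_quotient [Module.Projective R ((Fin n → PowerSeries R) ⧸ Λ)] :
    Module.Finite (PowerSeries R) Λ ∧ Module.Projective (PowerSeries R) Λ := by
  classical
  obtain ⟨σ, hσ⟩ := Module.projective_lifting_property (g Λ M) LinearMap.id (g_surjective hΛ)
  have hfin : Λ.FG := by
    let e : (Fin n → Fin M → R) →ₗ[R] (Fin n → PowerSeries R) :=
      (poly R n M).comp (LinearMap.id - σ.comp (g Λ M))
    obtain ⟨t, ht⟩ := Module.Finite.fg_top (R := R) (M := Fin n → Fin M → R)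
    let G : Finset (Fin n → PowerSeries R) := t.image e ∪ Finset.univ.image fun i => (X : (PowerSeries R)) ^ M • Pi.single i (1 : (PowerSeries R))
    refine ⟨G, le_antisymm ?_ ?_⟩
    · rw [Submodule.span_le]
      intro y hy
      rcases Finset.mem_union.1 (Finset.mem_coe.1 hy) with hy | hy
      · obtain ⟨c, -, rfl⟩ := Finset.mem_image.1 hy
        show e c ∈ Λ
        rw [← Submodule.Quotient.mk_eq_zero Λ]
        show g Λ M (c - σ (g Λ M c)) = 0
        rw [map_sub, ← LinearMap.comp_apply, hσ, LinearMap.id_apply, sub_self]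
      · obtain ⟨i, -, rfl⟩ := Finset.mem_image.1 hy
        exact hΛ _
    · intro v hv
      have he : ∀ c, e c ∈ (Submodule.span (PowerSeries R) (G : Set (Fin n → PowerSeries R))).restrictScalars R := by
        intro c
        have hc : c ∈ Submodule.span R (t : Set (Fin n → Fin M → R)) := ht ▸ trivial
        induction hc using Submodule.span_induction with
        | mem x hx => exact Submodule.subset_span (Finset.mem_union_left _ (Finset.mem_image_of_mem _ hx))
        | zero => rw [map_zero]; exact zero_mem _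
        | add a b _ _ ha hb => rw [map_add]; exact add_mem ha hb
        | smul r a _ ha => rw [map_smul]; exact Submodule.smul_mem _ _ ha
      have h0 : g Λ M (tau R n M v) = 0 := by
        rw [← LinearMap.mem_ker, ker_g hΛ]
        exact ⟨v, hv, rfl⟩
      have h1 : e (tau R n M v) = poly R n M (tau R n M v) := by
        show poly R n M (tau R n M v - σ (g Λ M (tau R n M v))) = _
        rw [h0, map_zero, sub_zero]
      obtain ⟨w, hw⟩ := exists_of_tau_eq_zero (n := n) (M := M)
        (v := v - poly R n M (tau R n M v)) (by rw [map_sub, tau_poly, sub_self])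
      rw [sub_eq_iff_eq_add] at hw
      rw [hw, ← h1, ← Finset.univ_sum_single w, Finset.smul_sum]
      refine add_mem (sum_mem fun i _ => ?_) (he _)
      rw [show Pi.single i (w i) = w i • (Pi.single i (1 : (PowerSeries R)) : (Fin n → PowerSeries R)) by
        rw [← Pi.single_smul, smul_eq_mul, mul_one], smul_comm]
      exact Submodule.smul_mem _ _ (Submodule.subset_span
        (Finset.mem_union_right _ (Finset.mem_image_of_mem _ (Finset.mem_univ i))))
  refine ⟨Module.Finite.iff_fg.2 hfin, ?_⟩
  let Q := (Fin n → PowerSeries R) ⧸ Λ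
  let T := (PowerSeries R) ⊗[R] Q
  let x : Q →ₗ[R] Q := (LinearMap.lsmul (PowerSeries R) Q (X : (PowerSeries R))).restrictScalars R
  let d : T →ₗ[(PowerSeries R)] T := (X : (PowerSeries R)) • LinearMap.id - x.baseChange (PowerSeries R)
  let pi' : T →ₗ[(PowerSeries R)] Q := LinearMap.liftBaseChange (PowerSeries R) (LinearMap.id : Q →ₗ[R] Q)
  have hpi : ∀ (a : (PowerSeries R)) (q : Q), pi' (a ⊗ₜ q) = a • q := fun a q => LinearMap.liftBaseChange_tmul _ _ _ _
  have hd : ∀ (a : (PowerSeries R)) (q : Q), d (a ⊗ₜ q) = (X * a) ⊗ₜ q - a ⊗ₜ ((X : (PowerSeries R)) • q) := fun a q => by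
    show (X : PowerSeries R) • (a ⊗ₜ[R] q) - x.baseChange (PowerSeries R) (a ⊗ₜ[R] q) = _
    rw [TensorProduct.smul_tmul', LinearMap.baseChange_tmul, smul_eq_mul]
    rfl
  have hQ : ∀ q : Q, (X : (PowerSeries R)) ^ M • q = 0 := fun q => by
    obtain ⟨v, rfl⟩ := Λ.mkQ_surjective q
    exact (Submodule.Quotient.mk_eq_zero Λ).2 (hΛ v)
  let shift : (PowerSeries R) →ₗ[R] (PowerSeries R) :=
    { toFun := fun f => mk fun j => coeff (j + M) f
      map_add' := fun a b => by ext j; simp
      map_smul' := fun r a => by ext j; simp }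
  have hleft : ∀ z : T, shift.rTensor Q (((X : (PowerSeries R)) ^ M) • z) = z := by
    intro z
    induction z using TensorProduct.induction_on with
    | zero => simp
    | add a b ha hb => rw [smul_add, map_add, ha, hb]
    | tmul a q =>
      rw [TensorProduct.smul_tmul', LinearMap.rTensor_tmul]
      congr 1
      ext j
      simp only [shift, LinearMap.coe_mk, AddHom.coe_mk]
      rw [coeff_mk, smul_eq_mul, coeff_X_pow_mul', if_pos (Nat.le_add_left M j), Nat.add_sub_cancel]
  have hdinj : Function.Injective d := by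
    rw [injective_iff_map_eq_zero]
    intro z hz
    have h1 : ∀ j : ℕ, ((X : (PowerSeries R)) ^ j) • z = ((x.baseChange (PowerSeries R)) ^ j) z := by
      intro j
      induction j with
      | zero => simp
      | succ j ih =>
        have hz' : (X : (PowerSeries R)) • z = x.baseChange (PowerSeries R) z := sub_eq_zero.1 hz
        rw [pow_succ, mul_smul, hz', pow_succ', Module.End.mul_apply, ← ih, map_smul]
    have h2 : ∀ y : T, ((x.baseChange (PowerSeries R)) ^ M) y = 0 := by
      intro y
      induction y using TensorProduct.induction_on with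
      | zero => simp
      | add a b ha hb => rw [map_add, ha, hb, add_zero]
      | tmul a q =>
        have : ∀ j : ℕ, ((x.baseChange (PowerSeries R)) ^ j) (a ⊗ₜ q) = a ⊗ₜ ((X : (PowerSeries R)) ^ j • q) := by
          intro j
          induction j with
          | zero => simp
          | succ j ih =>
            rw [pow_succ', Module.End.mul_apply, ih, LinearMap.baseChange_tmul, pow_succ', mul_smul]
            rfl
        rw [this, hQ, TensorProduct.tmul_zero]
    rw [← hleft z, h1, h2, map_zero]
  have hstep : ∀ (j : ℕ) (a : (PowerSeries R)) (q : Q), (X : (PowerSeries R)) ^ j • q = 0 →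
      a ⊗ₜ[R] q - (1 : (PowerSeries R)) ⊗ₜ[R] (a • q) ∈ LinearMap.range d := by
    intro j
    induction j with
    | zero =>
      intro a q hq
      rw [pow_zero, one_smul] at hq
      simp [hq]
    | succ j ih =>
      intro a q hq
      have ha := eq_X_mul_shift_add_const a
      set a' : (PowerSeries R) := mk fun p => coeff (p + 1) a with ha'
      set c : R := constantCoeff a with hc
      have h1 := ih a' ((X : (PowerSeries R)) • q) (by rwa [smul_smul, ← pow_succ])
      have e : a ⊗ₜ[R] q - (1 : (PowerSeries R)) ⊗ₜ[R] (a • q) =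
          d (a' ⊗ₜ q) + (a' ⊗ₜ[R] ((X : (PowerSeries R)) • q) - (1 : (PowerSeries R)) ⊗ₜ[R] (a' • (X : (PowerSeries R)) • q)) := by
        have e1 : (algebraMap R (PowerSeries R) c) ⊗ₜ[R] q = (1 : (PowerSeries R)) ⊗ₜ[R] ((algebraMap R (PowerSeries R) c) • q) := by
          rw [algebraMap_smul, ← TensorProduct.smul_tmul, Algebra.smul_def, mul_one]
        rw [hd, smul_smul, mul_comm a' X]
        nth_rewrite 1 [ha]
        nth_rewrite 1 [ha]
        rw [show (C c : (PowerSeries R)) = algebraMap R (PowerSeries R) c from rfl, TensorProduct.add_tmul, add_smul,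
          TensorProduct.tmul_add, e1]
        abel
      rw [e]
      exact add_mem ⟨_, rfl⟩ h1
  have hker : ∀ z : T, pi' z = 0 → z ∈ LinearMap.range d := by
    intro z hz
    suffices z - (1 : (PowerSeries R)) ⊗ₜ[R] (pi' z) ∈ LinearMap.range d by
      rwa [hz, TensorProduct.tmul_zero, sub_zero] at this
    clear hz
    induction z using TensorProduct.induction_on with
    | zero => simp
    | add a b ha hb => rw [map_add, TensorProduct.tmul_add, add_sub_add_comm]; exact add_mem ha hb
    | tmul a q => rw [hpi]; exact hstep M a q (hQ q)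
  have hpd : ∀ z, pi' (d z) = 0 := by
    intro z
    induction z using TensorProduct.induction_on with
    | zero => simp
    | add a b ha hb => rw [map_add, map_add, ha, hb, add_zero]
    | tmul a q => rw [hd, map_sub, hpi, hpi, smul_smul, mul_comm, sub_self]
  obtain ⟨α, hα⟩ := Module.projective_lifting_property pi' Λ.mkQ
    (fun q => ⟨1 ⊗ₜ q, by rw [hpi, one_smul]⟩)
  obtain ⟨β, hβ⟩ := Module.projective_lifting_property Λ.mkQ pi' Λ.mkQ_surjective
  have hαl : ∀ l : Λ, α (l : (Fin n → PowerSeries R)) ∈ LinearMap.range d := fun l =>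
    hker _ ((LinearMap.congr_fun hα (l : (Fin n → PowerSeries R))).trans ((Submodule.Quotient.mk_eq_zero Λ).2 l.2))
  let de : T ≃ₗ[(PowerSeries R)] LinearMap.range d := LinearEquiv.ofInjective d hdinj
  let v : Λ →ₗ[(PowerSeries R)] (Fin n → PowerSeries R) × T :=
    LinearMap.prod Λ.subtype (de.symm.toLinearMap ∘ₗ (α ∘ₗ Λ.subtype).codRestrict _ hαl)
  let u₀ : (Fin n → PowerSeries R) × T →ₗ[(PowerSeries R)] (Fin n → PowerSeries R) := (LinearMap.id - β ∘ₗ α).coprod (β ∘ₗ d)
  have hu : ∀ w, u₀ w ∈ Λ := by
    intro w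
    rw [← Submodule.Quotient.mk_eq_zero Λ]
    show Λ.mkQ ((w.1 - β (α w.1)) + β (d w.2)) = 0
    rw [map_add, map_sub, ← LinearMap.comp_apply Λ.mkQ β, ← LinearMap.comp_apply Λ.mkQ β, hβ, hpd,
      ← LinearMap.comp_apply pi' α, hα, sub_self, add_zero]
  refine Module.Projective.of_split v (u₀.codRestrict Λ hu) ?_
  refine LinearMap.ext fun l => Subtype.ext ?_
  show ((l : (Fin n → PowerSeries R)) - β (α l)) + β (d (de.symm ⟨α l, hαl l⟩)) = l
  have : d (de.symm ⟨α l, hαl l⟩) = α l := congrArg Subtype.val (de.apply_symm_apply ⟨α l, hαl l⟩)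
  rw [this, sub_add_cancel]

end Groth.Agent.Adic.LatticeQuot
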