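import Mathlib.RingTheory.MvPowerSeries.Basic
import Mathlib.RingTheory.MvPowerSeries.Inverse
import Mathlib.Data.Finsupp.Weight
import Mathlib.RingTheory.AdicCompletion.Basic
import Mathlib.Tactic.Ring

/-!
The `(X)`-adic filtration of a power series ring in finitely many variables.
-/

noncomputable section

namespace Groth.Agent.Adic.PowerSeries

open MvPowerSeries

variable (σ : Type*) (R : Type*) [CommRing R]

/-- the ideal generated by the variables -/
def mX : Ideal (MvPowerSeries σ R) := Ideal.span (Set.range X)

variable {σ R}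

theorem X_mem (i : σ) : (X i : MvPowerSeries σ R) ∈ mX σ R := Ideal.subset_span ⟨i, rfl⟩

theorem coeff_eq_zero_of_mem_pow {k : ℕ} {f : MvPowerSeries σ R} (hf : f ∈ mX σ R ^ k)
    (d : σ →₀ ℕ) (hd : d.degree < k) : coeff d f = 0 := by
  classical
  induction k generalizing f d with
  | zero => exact absurd hd (Nat.not_lt_zero _)
  | succ k ih =>
    rw [pow_succ] at hf
    induction hf using Submodule.mul_induction_on' with
    | add u _ v _ hu hv => rw [map_add, hu, hv, add_zero]
    | mem_mul_mem a ha b hb =>
      have hb0 : constantCoeff b = 0 := by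
        have : mX σ R ≤ RingHom.ker constantCoeff := by
          rw [mX, Ideal.span_le]
          rintro _ ⟨i, rfl⟩
          exact constantCoeff_X i
        exact this hb
      rw [coeff_mul]
      refine Finset.sum_eq_zero fun p hp => ?_
      rw [Finset.HasAntidiagonal.mem_antidiagonal] at hp
      by_cases h2 : p.2 = 0
      · rw [h2, coeff_zero_eq_constantCoeff_apply, hb0, mul_zero]
      · have h3 : p.2.degree ≠ 0 := fun h => h2 ((Finsupp.degree_eq_zero_iff _).1 h)
        have h4 : p.1.degree + p.2.degree = d.degree := by rw [← map_add, hp]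
        rw [ih ha p.1 (by omega), zero_mul]

theorem mem_pow_iff [Finite σ] {k : ℕ} {f : MvPowerSeries σ R} :
    f ∈ mX σ R ^ k ↔ ∀ d : σ →₀ ℕ, d.degree < k → coeff d f = 0 := by
  classical
  refine ⟨fun hf d hd => coeff_eq_zero_of_mem_pow hf d hd, fun h => ?_⟩
  have : Fintype σ := Fintype.ofFinite σ
  induction k generalizing f with
  | zero => simp
  | succ k ih =>
    have hex : ∀ d : σ →₀ ℕ, ∀ i : σ, ∃ j : σ, d ≠ 0 → d j ≠ 0 := fun d i => by
      by_cases hd : d = 0
      · exact ⟨i, fun h => absurd hd h⟩
      · obtain ⟨j, hj⟩ : ∃ j, d j ≠ 0 := by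
          by_contra hh
          push Not at hh
          exact hd (Finsupp.ext hh)
        exact ⟨j, fun _ => hj⟩
    choose c hc using hex
    rcases isEmpty_or_nonempty σ with hσ | ⟨⟨i₀⟩⟩
    · have : f = 0 := by
        ext d
        rw [map_zero]
        exact h d (by rw [Subsingleton.elim d 0, map_zero]; exact Nat.succ_pos k)
      rw [this]
      exact zero_mem _
    let g' : σ → MvPowerSeries σ R := fun i e =>
      if c (e + Finsupp.single i 1) i₀ = i then coeff (e + Finsupp.single i 1) f else 0
    have hf : f = ∑ i, X i * g' i := by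
      ext d
      rw [map_sum]
      by_cases hd : d = 0
      · subst hd
        rw [h 0 (by rw [map_zero]; exact Nat.succ_pos k)]
        exact (Finset.sum_eq_zero fun i _ => by
          rw [coeff_zero_eq_constantCoeff_apply, map_mul, constantCoeff_X, zero_mul]).symm
      · rw [Finset.sum_eq_single (c d i₀)]
        · rw [X, coeff_monomial_mul, if_pos (Finsupp.single_le_iff.2 (Nat.one_le_iff_ne_zero.2 (hc d i₀ hd))),
            one_mul]
          show coeff d f = g' (c d i₀) (d - Finsupp.single (c d i₀) 1)
          simp only [g', tsub_add_cancel_of_le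
            (Finsupp.single_le_iff.2 (Nat.one_le_iff_ne_zero.2 (hc d i₀ hd))), if_pos]
        · intro i _ hi
          rw [X, coeff_monomial_mul]
          split_ifs with hle
          · show 1 * g' i (d - Finsupp.single i 1) = 0
            simp only [g', tsub_add_cancel_of_le hle, if_neg (Ne.symm hi), mul_zero]
          · rfl
        · simp
    rw [hf, pow_succ']
    refine sum_mem fun i _ => Ideal.mul_mem_mul (X_mem i) (ih fun e he => ?_)
    show g' i e = 0
    simp only [g']
    split_ifs
    · exact h _ (by rw [map_add, Finsupp.degree_single]; omega)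
    · rfl

theorem sub_C_mem [Finite σ] (f : MvPowerSeries σ R) : f - C (constantCoeff f) ∈ mX σ R := by
  classical
  rw [← pow_one (mX σ R), mem_pow_iff]
  intro d hd
  rw [(Finsupp.degree_eq_zero_iff d).1 (by omega), map_sub, coeff_zero_eq_constantCoeff_apply,
    coeff_zero_eq_constantCoeff_apply, constantCoeff_C, sub_self]

theorem eq_zero_of_forall_mem_pow [Finite σ] {f : MvPowerSeries σ R} (h : ∀ k, f ∈ mX σ R ^ k) :
    f = 0 := by
  ext d
  rw [map_zero]
  exact mem_pow_iff.1 (h (d.degree + 1)) d (Nat.lt_succ_self _)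

instance isAdicComplete [Finite σ] : IsAdicComplete (mX σ R) (MvPowerSeries σ R) where
  haus' x hx := eq_zero_of_forall_mem_pow fun k => by
    have := hx k
    rw [SModEq.zero, smul_eq_mul, Ideal.mul_top] at this
    exact this
  prec' f hf := by
    let L : MvPowerSeries σ R := fun d => coeff d (f (d.degree + 1))
    have hL : ∀ d, coeff d L = coeff d (f (d.degree + 1)) := fun d => rfl
    clear_value L
    refine ⟨L, fun n => ?_⟩
    rw [SModEq.sub_mem, smul_eq_mul, Ideal.mul_top, mem_pow_iff]
    intro d hd
    have h1 := hf (show d.degree + 1 ≤ n from hd)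
    rw [SModEq.sub_mem, smul_eq_mul, Ideal.mul_top, mem_pow_iff] at h1
    have h2 := h1 d (Nat.lt_succ_self _)
    rw [map_sub, sub_eq_zero] at h2 ⊢
    rw [hL]
    exact h2.symm

/-- An algebra endomorphism which is the identity to first order is bijective. -/
theorem bijective_of_sub_X_mem [Finite σ] (ψ : MvPowerSeries σ R →ₐ[R] MvPowerSeries σ R)
    (hψ : ∀ i, ψ (X i) - X i ∈ mX σ R ^ 2) : Function.Bijective ψ := by
  have hm2 : mX σ R ^ 2 ≤ mX σ R := Ideal.pow_le_self two_ne_zero
  have hX : ∀ i, ψ (X i) ∈ mX σ R := fun i => by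
    have := add_mem (hm2 (hψ i)) (X_mem (R := R) i)
    rwa [sub_add_cancel] at this
  have hmap : ∀ b ∈ mX σ R, ψ b ∈ mX σ R := by
    intro b hb
    have : mX σ R ≤ (mX σ R).comap ψ.toRingHom := by
      rw [mX, Ideal.span_le]
      rintro _ ⟨i, rfl⟩
      exact hX i
    exact this hb
  have h0 : ∀ f, ψ f - f ∈ mX σ R := by
    intro f
    have h1 := sub_C_mem f
    have h2 := hmap _ h1
    rw [map_sub, c_eq_algebraMap, ψ.commutes] at h2
    have := sub_mem h2 h1
    rwa [c_eq_algebraMap, sub_sub_sub_cancel_right] at this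
  have h1 : ∀ b ∈ mX σ R, ψ b - b ∈ mX σ R ^ 2 := by
    intro b hb
    rw [mX] at hb
    induction hb using Submodule.span_induction with
    | mem x hx => obtain ⟨i, rfl⟩ := hx; exact hψ i
    | zero => rw [map_zero, sub_zero]; exact zero_mem _
    | add u v _ _ hu hv => rw [map_add, add_sub_add_comm]; exact add_mem hu hv
    | smul r u hu' hu =>
      rw [smul_eq_mul, map_mul,
        show ψ r * ψ u - r * u = (ψ r - r) * ψ u + r * (ψ u - u) by ring]
      refine add_mem ?_ (Ideal.mul_mem_left _ _ hu)
      rw [pow_two]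
      exact Ideal.mul_mem_mul (h0 r) (hmap u hu')
  have hk : ∀ k, ∀ f ∈ mX σ R ^ k, ψ f - f ∈ mX σ R ^ (k + 1) := by
    intro k
    induction k with
    | zero => intro f _; rw [zero_add, pow_one]; exact h0 f
    | succ k ih =>
      intro f hf
      rw [pow_succ] at hf
      induction hf using Submodule.mul_induction_on' with
      | add u _ v _ hu hv => rw [map_add, add_sub_add_comm]; exact add_mem hu hv
      | mem_mul_mem a ha b hb =>
        rw [map_mul, show ψ a * ψ b - a * b = (ψ a - a) * ψ b + a * (ψ b - b) by ring]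
        refine add_mem ?_ ?_
        · rw [pow_succ]; exact Ideal.mul_mem_mul (ih a ha) (hmap b hb)
        · rw [show k + 1 + 1 = k + 2 by ring, pow_add]; exact Ideal.mul_mem_mul ha (h1 b hb)
  constructor
  · rw [injective_iff_map_eq_zero]
    intro f hf
    refine eq_zero_of_forall_mem_pow fun k => ?_
    induction k with
    | zero => simp
    | succ k ih =>
      have := hk k f ih
      rwa [hf, zero_sub, neg_mem_iff] at this
  · intro g
    let s : ℕ → MvPowerSeries σ R := fun k => Nat.rec 0 (fun _ f => f + (g - ψ f)) k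
    have hs : ∀ k, g - ψ (s k) ∈ mX σ R ^ k := by
      intro k
      induction k with
      | zero => simp
      | succ k ih =>
        show g - ψ (s k + (g - ψ (s k))) ∈ _
        rw [map_add, show g - (ψ (s k) + ψ (g - ψ (s k))) =
          -(ψ (g - ψ (s k)) - (g - ψ (s k))) by ring]
        exact neg_mem (hk k _ ih)
    have hcauchy : ∀ {m n : ℕ}, m ≤ n → s m ≡ s n [SMOD (mX σ R ^ m • ⊤ : Submodule (MvPowerSeries σ R) (MvPowerSeries σ R))] := by
      intro m n hmn
      rw [SModEq.sub_mem, smul_eq_mul, Ideal.mul_top]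
      induction n, hmn using Nat.le_induction with
      | base => rw [sub_self]; exact zero_mem _
      | succ n hmn ih =>
        show s m - (s n + (g - ψ (s n))) ∈ _
        rw [← sub_sub]
        exact sub_mem ih (Ideal.pow_le_pow_right hmn (hs n))
    obtain ⟨F, hF⟩ := IsPrecomplete.prec (isAdicComplete (σ := σ) (R := R)).toIsPrecomplete hcauchy
    refine ⟨F, (sub_eq_zero.1 (eq_zero_of_forall_mem_pow fun k => ?_)).symm⟩
    have h2 := hF k
    rw [SModEq.sub_mem, smul_eq_mul, Ideal.mul_top] at h2
    have h3 : ψ (s k - F) ∈ mX σ R ^ k := by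
      have h4 := Ideal.pow_le_pow_right (Nat.le_succ k) (hk k _ h2)
      have := add_mem h4 h2
      rwa [sub_add_cancel] at this
    rw [show g - ψ F = (g - ψ (s k)) + ψ (s k - F) by rw [map_sub]; ring]
    exact add_mem (hs k) h3

end Groth.Agent.Adic.PowerSeries
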